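import Mathlib
import Cfsg.Agent.PGroup.Normal
import Cfsg.Agent.PGroup.UniqueOrderP
import Cfsg.Agent.TwoGroup.UniqueInvolution
import Cfsg.Agent.Counting.Frobenius

/-!
`p`-groups in which any two subgroups of the same order are isomorphic.
-/

set_option autoImplicit false

namespace CfsgLib.IsoSubgroups

open scoped commutatorElement Pointwise

variable {P : Type*} [Group P] [Finite P] {p : ℕ} [hp : Fact p.Prime]

omit hp in
theorem card_mono {H K : Subgroup P} (h : H ≤ K) : Nat.card H ≤ Nat.card K :=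
  Nat.card_le_card_of_injective _ (Subgroup.inclusion_injective h)

omit hp in
theorem card_sup_zpowers_le (E : Subgroup P) (x : P) (hx : x ∈ Subgroup.normalizer (E : Set P)) :
    Nat.card ↥(E ⊔ Subgroup.zpowers x) ≤ Nat.card E * orderOf x := by
  have hle : Subgroup.zpowers x ≤ Subgroup.normalizer (E : Set P) := Subgroup.zpowers_le.mpr hx
  have h := Subgroup.coe_mul_of_right_le_normalizer_left E _ hle
  calc Nat.card ↥(E ⊔ Subgroup.zpowers x) = Nat.card ((E : Set P) * (Subgroup.zpowers x : Set P) : Set P) :=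
        Nat.card_congr (Equiv.setCongr h)
    _ ≤ Nat.card E * Nat.card (Subgroup.zpowers x) := Set.natCard_mul_le
    _ = _ := by rw [Nat.card_zpowers]

theorem elementary_join (hP : IsPGroup p P) {E : Subgroup P} {k : ℕ}
    (hc : ∀ a ∈ E, ∀ b ∈ E, a * b = b * a) (he : ∀ a ∈ E, a ^ p = 1) (hk : Nat.card E = p ^ k)
    {x : P} (hx : x ^ p = 1) (hxc : ∀ a ∈ E, Commute a x) (hxE : x ∉ E) :
    ∃ E' : Subgroup P, E' = E ⊔ Subgroup.zpowers x ∧ E ≤ E' ∧ x ∈ E' ∧ (∀ a ∈ E', ∀ b ∈ E', a * b = b * a) ∧ (∀ a ∈ E', a ^ p = 1) ∧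
      Nat.card E' = p ^ (k + 1) := by
  have hxn : x ∈ Subgroup.normalizer (E : Set P) := by
    rw [Subgroup.mem_normalizer_iff]
    intro a
    refine ⟨fun ha => ?_, fun ha => ?_⟩
    · rwa [← (hxc a ha).eq, mul_inv_cancel_right]
    · have h : x * a * x⁻¹ * x = x * (x * a * x⁻¹) := (hxc _ ha).eq
      have h' : x * a * x⁻¹ = a := by
        apply mul_left_cancel (a := x)
        rw [← h]; group
      rwa [h'] at ha
  have hle : Subgroup.zpowers x ≤ Subgroup.normalizer (E : Set P) := Subgroup.zpowers_le.mpr hxn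
  have hmem : ∀ z ∈ E ⊔ Subgroup.zpowers x, ∃ a ∈ E, ∃ i : ℤ, z = a * x ^ i := by
    intro z hz
    rw [← SetLike.mem_coe, Subgroup.coe_mul_of_right_le_normalizer_left E _ hle] at hz
    obtain ⟨a, ha, _, ⟨i, rfl⟩, rfl⟩ := hz
    exact ⟨a, ha, i, rfl⟩
  refine ⟨E ⊔ Subgroup.zpowers x, rfl, le_sup_left, Subgroup.mem_sup_right (Subgroup.mem_zpowers x), ?_, ?_, ?_⟩
  · intro u hu v hv
    obtain ⟨a, ha, i, rfl⟩ := hmem u hu
    obtain ⟨b, hb, j, rfl⟩ := hmem v hv
    have hab : Commute a b := hc a ha b hb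
    exact ((hab.mul_right ((hxc a ha).zpow_right j)).mul_left
      (((hxc b hb).zpow_right i).symm.mul_right ((Commute.refl x).zpow_zpow i j))).eq
  · intro z hz
    obtain ⟨a, ha, i, rfl⟩ := hmem z hz
    rw [((hxc a ha).zpow_right i).mul_pow, he a ha, one_mul, ← zpow_natCast, ← zpow_mul, mul_comm,
      zpow_mul, zpow_natCast, hx, one_zpow]
  · obtain ⟨m, hm⟩ := IsPGroup.iff_card.mp (hP.to_subgroup (E ⊔ Subgroup.zpowers x))
    have h1 := card_sup_zpowers_le E x hxn
    have ho : orderOf x = p := orderOf_eq_prime hx fun h => hxE (h ▸ E.one_mem)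
    rw [hm, hk, ho, ← pow_succ] at h1
    have h2 : p ^ k < p ^ m := by
      rw [← hk, ← hm]
      refine lt_of_le_of_ne (card_mono le_sup_left) fun h => hxE ?_
      rw [Subgroup.eq_of_le_of_card_ge le_sup_left h.ge]
      exact Subgroup.mem_sup_right (Subgroup.mem_zpowers x)
    have h3 := (Nat.pow_le_pow_iff_right hp.out.one_lt).mp h1
    have h4 := (Nat.pow_lt_pow_iff_right hp.out.one_lt).mp h2
    rw [hm, show m = k + 1 by omega]

omit [Finite P] in
theorem card_zpowers_prime {z : P} (hz : orderOf z = p) : Nat.card (Subgroup.zpowers z) = p ^ 1 := by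
  rw [pow_one, Nat.card_zpowers, hz]

theorem exists_elementary_sq (hP : IsPGroup p P) {x y : P} (hx : orderOf x = p) (hy : orderOf y = p)
    (hxy : y ∉ Subgroup.zpowers x) :
    ∃ E : Subgroup P, (∀ a ∈ E, a ^ p = 1) ∧ Nat.card E = p ^ 2 := by
  haveI : Nontrivial P := ⟨⟨x, 1, fun h => hp.out.one_lt.ne (by rw [← hx, h, orderOf_one])⟩⟩
  haveI := hP.center_nontrivial
  obtain ⟨k, hk, hk'⟩ := (hP.to_subgroup (Subgroup.center P)).nontrivial_iff_card.mp inferInstance
  obtain ⟨⟨z, hzc⟩, hz⟩ := exists_prime_orderOf_dvd_card' p (hk' ▸ dvd_pow_self p hk.ne' : p ∣ Nat.card (Subgroup.center P))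
  have hz' : orderOf z = p := by rw [← hz]; exact (Subgroup.orderOf_coe ⟨z, hzc⟩).symm ▸ rfl
  obtain ⟨w, hw, hwZ⟩ : ∃ w, orderOf w = p ∧ w ∉ Subgroup.zpowers z := by
    by_contra h
    push_neg at h
    have hxz := h x hx
    have heq : Subgroup.zpowers x = Subgroup.zpowers z :=
      Subgroup.eq_of_le_of_card_ge (Subgroup.zpowers_le.mpr hxz) (by rw [Nat.card_zpowers, Nat.card_zpowers, hx, hz'])
    exact hxy (heq ▸ h y hy)
  have hzp : ∀ a ∈ Subgroup.zpowers z, a ^ p = 1 := by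
    rintro _ ⟨i, rfl⟩
    simp only
    rw [← zpow_natCast, ← zpow_mul, mul_comm, zpow_mul, zpow_natCast, ← hz', pow_orderOf_eq_one, one_zpow]
  obtain ⟨E, -, -, -, -, he, hc⟩ := elementary_join hP (E := Subgroup.zpowers z)
    (fun a ha b hb => congrArg Subtype.val (mul_comm' (⟨a, ha⟩ : Subgroup.zpowers z) ⟨b, hb⟩))
    hzp (card_zpowers_prime hz') (hw ▸ pow_orderOf_eq_one w)
    (fun a ha => by
      obtain ⟨i, rfl⟩ := ha
      exact Commute.zpow_left (Subgroup.mem_center_iff.mp hzc w).symm i) hwZ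
  exact ⟨E, he, hc⟩

omit hp in
theorem commute_of_equiv {A B : Subgroup P} (e : A ≃* B) (hA : ∀ a ∈ A, ∀ b ∈ A, a * b = b * a) {a b : P}
    (ha : a ∈ B) (hb : b ∈ B) : a * b = b * a := by
  have h : e.symm ⟨a, ha⟩ * e.symm ⟨b, hb⟩ = e.symm ⟨b, hb⟩ * e.symm ⟨a, ha⟩ :=
    Subtype.ext (hA _ (e.symm ⟨a, ha⟩).2 _ (e.symm ⟨b, hb⟩).2)
  rw [← map_mul, ← map_mul] at h
  exact congrArg Subtype.val (e.symm.injective h)

theorem exponent_of_iso (hP : IsPGroup p P)
    (hiso : ∀ H K : Subgroup P, Nat.card H = Nat.card K → Nonempty (H ≃* K))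
    {x y : P} (hx : orderOf x = p) (hy : orderOf y = p) (hxy : y ∉ Subgroup.zpowers x) (g : P) :
    g ^ p = 1 := by
  obtain ⟨E, he, hE⟩ := exists_elementary_sq hP hx hy hxy
  obtain ⟨k, hk⟩ := hP g
  obtain ⟨j, -, hj⟩ := (Nat.dvd_prime_pow hp.out).mp (orderOf_dvd_of_pow_eq_one hk)
  by_contra hne
  have hj2 : 2 ≤ j := by
    by_contra h
    apply hne
    rw [← orderOf_dvd_iff_pow_eq_one, hj]
    calc p ^ j ∣ p ^ 1 := pow_dvd_pow p (by omega)
      _ = p := pow_one p
  set w := g ^ p ^ (j - 2)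
  have hw : orderOf w = p ^ 2 := by
    rw [orderOf_pow_of_dvd (pow_ne_zero _ hp.out.ne_zero) (hj ▸ pow_dvd_pow p (by omega)), hj,
      Nat.pow_div (by omega) hp.out.pos]
    congr 1; omega
  obtain ⟨e⟩ := hiso E (Subgroup.zpowers w) (by rw [hE, Nat.card_zpowers, hw])
  have h1 : (⟨w, Subgroup.mem_zpowers w⟩ : Subgroup.zpowers w) ^ p = 1 := by
    obtain ⟨a, ha⟩ := e.surjective ⟨w, Subgroup.mem_zpowers w⟩
    have : a ^ p = 1 := Subtype.ext (he _ a.2)
    rw [← ha, ← map_pow, this, map_one]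
  have h2 : w ^ p = 1 := congrArg Subtype.val h1
  have := orderOf_dvd_of_pow_eq_one h2
  rw [hw] at this
  have := Nat.le_of_dvd hp.out.pos this
  nlinarith [hp.out.two_le]

theorem card_of_nonabelian (hP : IsPGroup p P)
    (hiso : ∀ H K : Subgroup P, Nat.card H = Nat.card K → Nonempty (H ≃* K))
    (hexp : ∀ g : P, g ^ p = 1) (hnc : ¬ IsMulCommutative P) : Nat.card P = p ^ 3 := by
  obtain ⟨n, hn⟩ := IsPGroup.iff_card.mp hP
  have hcomm2 : ∀ (H : Subgroup P), Nat.card H ≤ p ^ 2 → ∀ a ∈ H, ∀ b ∈ H, a * b = b * a := by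
    intro H hH a ha b hb
    obtain ⟨m, hm⟩ := IsPGroup.iff_card.mp (hP.to_subgroup H)
    have hm2 : m ≤ 2 := (Nat.pow_le_pow_iff_right hp.out.one_lt).mp (hm ▸ hH)
    rcases (show m = 0 ∨ m = 1 ∨ m = 2 by omega) with rfl | rfl | rfl
    · rw [pow_zero] at hm
      have := Subgroup.card_eq_one.mp hm
      subst this
      rw [Subgroup.mem_bot.mp ha, Subgroup.mem_bot.mp hb]
    · haveI : IsCyclic H := isCyclic_of_prime_card (by rw [hm, pow_one])
      exact congrArg Subtype.val (mul_comm' (⟨a, ha⟩ : H) ⟨b, hb⟩)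
    · exact congrArg Subtype.val (IsPGroup.commutative_of_card_eq_prime_sq hm (⟨a, ha⟩ : H) ⟨b, hb⟩)
  have hn3 : 3 ≤ n := by
    by_contra h
    refine hnc ⟨⟨fun a b => hcomm2 ⊤ ?_ a (Subgroup.mem_top a) b (Subgroup.mem_top b)⟩⟩
    rw [Subgroup.card_top, hn]
    exact Nat.pow_le_pow_right hp.out.pos (by omega)
  by_contra hne
  have hn4 : 4 ≤ n := by
    rcases Nat.lt_or_ge n 4 with h | h
    · exact absurd (by rw [hn, show n = 3 by omega]) hne
    · exact h
  haveI : Nontrivial P := by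
    rw [← Finite.one_lt_card_iff_nontrivial, hn]
    exact Nat.one_lt_pow (by omega) hp.out.one_lt
  -- an abelian subgroup of order `p ^ 3`
  obtain ⟨N, hNn, -, hN⟩ := CfsgLib.PGroup.exists_normal_card_pow hP (⊤ : Subgroup P) (k := 2)
    (by rw [Subgroup.card_top, hn]; exact pow_dvd_pow p (by omega))
  have hNbot : N ≠ ⊥ := fun h => by
    rw [h, Subgroup.card_bot] at hN
    exact (Nat.one_lt_pow two_ne_zero hp.out.one_lt).ne hN
  obtain ⟨z, hz, hz1⟩ := (N ⊓ Subgroup.center P).bot_or_exists_ne_one.resolve_left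
    (CfsgLib.PGroup.inf_center_ne_bot hP N hNbot)
  have hzo : orderOf z = p := orderOf_eq_prime (hexp z) hz1
  obtain ⟨e, he, heZ⟩ : ∃ e ∈ N, e ∉ Subgroup.zpowers z := by
    by_contra h
    push_neg at h
    have := card_mono (show N ≤ Subgroup.zpowers z from h)
    rw [hN, Nat.card_zpowers, hzo] at this
    nlinarith [hp.out.two_le]
  have hzcomm : ∀ a ∈ Subgroup.zpowers z, ∀ g : P, Commute a g := by
    rintro _ ⟨i, rfl⟩ g
    exact Commute.zpow_left (Subgroup.mem_center_iff.mp hz.2 g).symm i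
  obtain ⟨E, hEdef, hZE, heE, hEc, hEe, hE⟩ := elementary_join hP (E := Subgroup.zpowers z)
    (fun a ha b _ => (hzcomm a ha b).eq) (fun a _ => hexp a) (card_zpowers_prime hzo) (hexp e)
    (fun a ha => hzcomm a ha e) heZ
  have hCle : p ^ 3 ≤ Nat.card (Subgroup.centralizer ({e} : Set P)) := by
    have hidx : (Subgroup.centralizer ({e} : Set P)).index < p ^ 2 := by
      rw [← CfsgLib.Counting.ncard_isConj]
      refine lt_of_lt_of_le ?_ hN.le
      rw [← SetLike.coe_sort_coe, Nat.card_coe_set_eq]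
      refine Set.ncard_lt_ncard ⟨?_, fun h => ?_⟩ (Set.toFinite _)
      · intro y hy
        obtain ⟨g, rfl⟩ := isConj_iff.mp hy
        exact hNn.conj_mem e he g
      · obtain ⟨g, hg⟩ := isConj_iff.mp (h N.one_mem)
        exact heZ ((conj_eq_one_iff.mp hg) ▸ Subgroup.one_mem _)
    obtain ⟨i, -, hi⟩ := (Nat.dvd_prime_pow hp.out).mp (hn ▸ Subgroup.index_dvd_card (Subgroup.centralizer ({e} : Set P)))
    obtain ⟨m, hm⟩ := IsPGroup.iff_card.mp (hP.to_subgroup (Subgroup.centralizer ({e} : Set P)))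
    have h := (Subgroup.centralizer ({e} : Set P)).card_mul_index
    rw [hi] at hidx
    rw [hm, hi, hn, ← pow_add] at h
    have h1 := Nat.pow_right_injective hp.out.two_le h
    have h2 := (Nat.pow_lt_pow_iff_right hp.out.one_lt).mp hidx
    rw [hm]
    exact Nat.pow_le_pow_right hp.out.pos (by omega)
  obtain ⟨c, hc, hcE⟩ : ∃ c ∈ Subgroup.centralizer ({e} : Set P), c ∉ E := by
    by_contra h
    push_neg at h
    have := hCle.trans (card_mono h)
    rw [hE] at this
    exact absurd this (not_le.mpr (Nat.pow_lt_pow_right hp.out.one_lt (by norm_num)))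
  have hcom : ∀ a ∈ E, Commute a c := by
    have hle : Subgroup.zpowers z ⊔ Subgroup.zpowers e ≤ Subgroup.centralizer ({c} : Set P) := by
      refine sup_le (fun a ha => Subgroup.mem_centralizer_singleton_iff.mpr (hzcomm a ha c).eq) ?_
      rw [Subgroup.zpowers_le, Subgroup.mem_centralizer_singleton_iff]
      exact (Subgroup.mem_centralizer_singleton_iff.mp hc).symm
    intro a ha
    have hfull : E ≤ Subgroup.zpowers z ⊔ Subgroup.zpowers e := hEdef.le
    exact Subgroup.mem_centralizer_singleton_iff.mp (hle (hfull ha))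
  obtain ⟨A, -, -, -, hAc, -, hA⟩ := elementary_join hP hEc hEe hE (hexp c) hcom hcE
  -- a nonabelian subgroup of order `p ^ 3`
  haveI : Group.IsNilpotent P := hP.isNilpotent
  obtain ⟨a, ha2, haZ⟩ : ∃ a ∈ Subgroup.upperCentralSeries P 2, a ∉ Subgroup.center P := by
    by_contra h
    push_neg at h
    have hbot : Subgroup.center (P ⧸ Subgroup.center P) = ⊥ := by
      rw [eq_bot_iff]
      intro q hq
      obtain ⟨g, rfl⟩ := QuotientGroup.mk_surjective q
      rw [Subgroup.mem_bot, QuotientGroup.eq_one_iff]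
      apply h
      rw [Subgroup.mem_upperCentralSeries_succ_iff]
      intro w
      rw [Subgroup.upperCentralSeries_one, ← QuotientGroup.eq_one_iff, commutatorElement_def]
      have := Subgroup.mem_center_iff.mp hq (w : P)
      simp only [QuotientGroup.mk_mul, QuotientGroup.mk_inv, ← this]
      group
    haveI : Nontrivial (P ⧸ Subgroup.center P) := by
      rw [QuotientGroup.nontrivial_iff]
      exact fun htop => hnc ⟨⟨fun a b => Subgroup.mem_center_iff.mp (htop ▸ Subgroup.mem_top b : b ∈ Subgroup.center P) a⟩⟩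
    haveI := (hP.to_quotient (Subgroup.center P)).center_nontrivial
    exact (Subgroup.nontrivial_iff_ne_bot _).mp inferInstance hbot
  obtain ⟨b, hb⟩ : ∃ b, b * a ≠ a * b := by
    by_contra h
    push_neg at h
    exact haZ (Subgroup.mem_center_iff.mpr h)
  have hk : ⁅a, b⁆ ∈ Subgroup.center P := by
    have := (Subgroup.mem_upperCentralSeries_succ_iff.mp ha2) b
    rwa [Subgroup.upperCentralSeries_one] at this
  have hk1 : ⁅a, b⁆ ≠ 1 := fun h => hb (commutatorElement_eq_one_iff_mul_comm.mp h).symm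
  have hkcomm : ∀ t ∈ Subgroup.zpowers ⁅a, b⁆, ∀ g : P, Commute t g := by
    rintro _ ⟨i, rfl⟩ g
    exact Commute.zpow_left (Subgroup.mem_center_iff.mp hk g).symm i
  have haK : a ∉ Subgroup.zpowers ⁅a, b⁆ := fun h => hb ((hkcomm a h b).eq).symm
  obtain ⟨K, hKdef, hCK, haK', hKc, -, hK⟩ := elementary_join hP (E := Subgroup.zpowers ⁅a, b⁆)
    (fun t ht u _ => (hkcomm t ht u).eq) (fun t _ => hexp t) (card_zpowers_prime (orderOf_eq_prime (hexp _) hk1))
    (hexp a) (fun t ht => hkcomm t ht a) haK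
  have hK' : Subgroup.zpowers ⁅a, b⁆ ⊔ Subgroup.zpowers a = K := hKdef.symm
  have hbn : b ∈ Subgroup.normalizer (K : Set P) := by
    have hgen : K ≤ K.comap (MulAut.conj b).toMonoidHom := by
      conv_lhs => rw [← hK']
      refine sup_le ?_ ?_
      · intro t ht
        show b * t * b⁻¹ ∈ K
        rw [← (hkcomm t ht b).eq, mul_inv_cancel_right]; exact hCK ht
      · rw [Subgroup.zpowers_le]
        show b * a * b⁻¹ ∈ K
        rw [show b * a * b⁻¹ = ⁅a, b⁆⁻¹ * a by rw [commutatorElement_def]; group]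
        exact K.mul_mem (K.inv_mem (hCK (Subgroup.mem_zpowers _))) haK'
    have heq : K.map (MulAut.conj b).toMonoidHom = K := Subgroup.eq_of_le_of_card_ge
      (Subgroup.map_le_iff_le_comap.mpr hgen)
      (by rw [Subgroup.card_map_of_injective (MulAut.conj b).injective])
    rw [Subgroup.mem_normalizer_iff]
    intro t
    refine ⟨fun ht => hgen ht, fun ht => ?_⟩
    obtain ⟨t', ht', he'⟩ := Subgroup.mem_map.mp (heq.symm ▸ ht : b * t * b⁻¹ ∈ K.map (MulAut.conj b).toMonoidHom)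
    exact (MulAut.conj b).injective he' ▸ ht'
  set B := K ⊔ Subgroup.zpowers b
  have hB1 : Nat.card B ≤ p ^ 3 := by
    refine (card_sup_zpowers_le K b hbn).trans ?_
    rw [hK, show (3 : ℕ) = 1 + 1 + 1 from rfl, pow_succ p (1 + 1)]
    exact Nat.mul_le_mul_left _ (Nat.le_of_dvd hp.out.pos (orderOf_dvd_of_pow_eq_one (hexp b)))
  obtain ⟨m, hm⟩ := IsPGroup.iff_card.mp (hP.to_subgroup B)
  have haB : a ∈ B := Subgroup.mem_sup_left haK'
  have hbB : b ∈ B := Subgroup.mem_sup_right (Subgroup.mem_zpowers b)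
  have hm3 : m = 3 := by
    have h1 := (Nat.pow_le_pow_iff_right hp.out.one_lt).mp (hm ▸ hB1)
    by_contra h
    exact hb (hcomm2 B (by rw [hm]; exact Nat.pow_le_pow_right hp.out.pos (by omega)) b hbB a haB)
  obtain ⟨φ⟩ := hiso A B (by rw [hA, hm, hm3])
  exact hb (commute_of_equiv φ hAc hbB haB)

omit hp in
/-- A generalized quaternion group with isomorphic subgroups of equal order has order eight. -/
theorem quaternion_eight {k : ℕ} (hk : 1 ≤ k) (e : P ≃* QuaternionGroup (2 ^ k)) (hP : IsPGroup 2 P)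
    (hiso : ∀ H K : Subgroup P, Nat.card H = Nat.card K → Nonempty (H ≃* K)) : k = 1 := by
  haveI : Fact (Nat.Prime 2) := ⟨Nat.prime_two⟩
  haveI : NeZero (2 ^ k) := ⟨by positivity⟩
  haveI : NeZero (2 * 2 ^ k) := ⟨by positivity⟩
  by_contra hne
  set u := e.symm (QuaternionGroup.a 1)
  set v := e.symm (QuaternionGroup.xa 0)
  have hu : orderOf u = 2 * 2 ^ k := by rw [MulEquiv.orderOf_eq, QuaternionGroup.orderOf_a_one]
  have hcard : Nat.card P = 4 * 2 ^ k := by
    rw [Nat.card_congr e.toEquiv, Nat.card_eq_fintype_card, QuaternionGroup.card]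
  have hv : Subgroup.zpowers v ≠ ⊤ := by
    intro h
    have := Nat.card_zpowers v
    rw [h, Subgroup.card_top, hcard, MulEquiv.orderOf_eq, QuaternionGroup.orderOf_xa] at this
    have h2 : 2 ≤ 2 ^ k := by
      calc 2 = 2 ^ 1 := rfl
        _ ≤ _ := Nat.pow_le_pow_right two_pos hk
    omega
  obtain ⟨M, hvM, hM, hMn⟩ := CfsgLib.PGroup.exists_index_eq_ge hP hv
  have hMc : Nat.card M = 2 * 2 ^ k := by
    have := M.card_mul_index
    rw [hM, hcard] at this
    omega
  obtain ⟨φ⟩ := hiso (Subgroup.zpowers u) M (by rw [Nat.card_zpowers, hu, hMc])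
  haveI := hMn
  have hu2 : u ^ 2 ∈ M := hM ▸ M.pow_index_mem u
  have h := commute_of_equiv φ
    (fun a ha b hb => congrArg Subtype.val (mul_comm' (⟨a, ha⟩ : Subgroup.zpowers u) ⟨b, hb⟩))
    hu2 (hvM (Subgroup.mem_zpowers v))
  have h' := congrArg e h
  simp only [map_mul, map_pow, u, v, MulEquiv.apply_symm_apply, QuaternionGroup.a_one_pow,
    QuaternionGroup.a_mul_xa, QuaternionGroup.xa_mul_a, QuaternionGroup.xa.injEq] at h'
  have h4 : ((4 : ℕ) : ZMod (2 * 2 ^ k)) = 0 := by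
    push_cast at h' ⊢
    linear_combination -h'
  rw [ZMod.natCast_eq_zero_iff] at h4
  have h5 := Nat.le_of_dvd (by norm_num) h4
  have h6 : 4 ≤ 2 ^ k := by
    calc 4 = 2 ^ 2 := rfl
      _ ≤ _ := Nat.pow_le_pow_right two_pos (by omega)
  omega

/-- The classification. -/
theorem classify (hP : IsPGroup p P)
    (hiso : ∀ H K : Subgroup P, Nat.card H = Nat.card K → Nonempty (H ≃* K)) :
    IsCyclic P ∨ (IsMulCommutative P ∧ ∀ g : P, g ^ p = 1) ∨
      (p = 2 ∧ Nonempty (P ≃* QuaternionGroup 2)) ∨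
      (p ≠ 2 ∧ ¬ IsMulCommutative P ∧ Nat.card P = p ^ 3 ∧ ∀ g : P, g ^ p = 1) := by
  by_cases hu : ∀ x y : P, orderOf x = p → orderOf y = p → y ∈ Subgroup.zpowers x
  · by_cases h2 : p = 2
    · subst h2
      have hamo : CfsgLib.TwoGroup.AtMostOneInvolution P := by
        intro x y hx hy
        obtain ⟨i, hi⟩ := hu x y hx hy
        simp only at hi
        have hx2 : x ^ (2 : ℤ) = 1 := by exact_mod_cast (hx ▸ pow_orderOf_eq_one x)
        rcases Int.even_or_odd i with ⟨j, hj⟩ | ⟨j, hj⟩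
        · exfalso
          rw [hj, ← two_mul, zpow_mul, hx2, one_zpow] at hi
          rw [← hi, orderOf_one] at hy
          exact absurd hy (by norm_num)
        · rw [← hi, hj, zpow_add_one, zpow_mul, hx2, one_zpow, one_mul]
      rcases CfsgLib.TwoGroup.cyclic_or_quaternion hP hamo with h | ⟨k, hk, ⟨e⟩⟩
      · exact Or.inl h
      · obtain rfl := quaternion_eight hk e hP hiso
        exact Or.inr (Or.inr (Or.inl ⟨rfl, ⟨e⟩⟩))
    · exact Or.inl (CfsgLib.PGroup.isCyclic_of_unique_subgroup h2 hP hu)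
  · push_neg at hu
    obtain ⟨x, y, hx, hy, hxy⟩ := hu
    have hexp := exponent_of_iso hP hiso hx hy hxy
    by_cases hc : IsMulCommutative P
    · exact Or.inr (Or.inl ⟨hc, hexp⟩)
    · refine Or.inr (Or.inr (Or.inr ⟨?_, hc, card_of_nonabelian hP hiso hexp hc, hexp⟩))
      rintro rfl
      exact hc ⟨⟨fun a b => mul_comm_of_exponent_two
        (Nat.prime_two.eq_one_or_self_of_dvd _ (Monoid.exponent_dvd_of_forall_pow_eq_one hexp) |>.resolve_left
          (fun h => by
            rw [Monoid.exp_eq_one_iff] at h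
            exact hxy (by rw [Subsingleton.elim y x]; exact Subgroup.mem_zpowers x))) a b⟩⟩

end CfsgLib.IsoSubgroups
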